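import Groth.Agent.ZarPicLib.Basic
import Groth.Agent.NormLB.Module
import Groth.Agent.TMul.Power
import Groth.Agent.TMul.AmpleBasis
import Groth.Agent.UfdExtend.Glue
import Groth.Agent.InvGen.Basic
import Groth.Prelude.Def_PicGrp
import Groth.Prelude.Def_UnitsSh

/-!
# `H¹(X, O^×)` and invertible modules
-/

set_option autoImplicit false
set_option backward.isDefEq.respectTransparency false
set_option backward.isDefEq.respectTransparency.types false
set_option linter.style.haveILetI false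
set_option maxHeartbeats 1000000

universe u

open CategoryTheory CategoryTheory.Limits AlgebraicGeometry TopologicalSpace Opposite
open Groth.Agent.SiteCoh (embedSeq embedSeq_shortExact)
open Groth.Agent.QC (resO resO_resO res_res res_smul resO_self app_res)
open TMul (IsGen)

noncomputable section

namespace Groth.Agent.ZarPicLib

variable {X : Scheme.{u}}

/-- the function underlying a unit section -/
def oval {U : X.Opens} (s : sec (UnitsSh.unitsAb X) U) : Γ(X, U) := ((UnitsSh.unitOfSect s : Γ(X, U)ˣ) : Γ(X, U))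

theorem isUnit_oval {U : X.Opens} (s : sec (UnitsSh.unitsAb X) U) : IsUnit (oval s) := Units.isUnit _

theorem oval_add {U : X.Opens} (s s' : sec (UnitsSh.unitsAb X) U) : oval (s + s') = oval s * oval s' := rfl

theorem oval_zero (U : X.Opens) : oval (0 : sec (UnitsSh.unitsAb X) U) = 1 := rfl

theorem oval_rr {U V : X.Opens} (h : V ≤ U) (s : sec (UnitsSh.unitsAb X) U) :
    oval (rr _ h s) = resO X h (oval s) := rfl

theorem oval_injective {U : X.Opens} : Function.Injective (oval : sec (UnitsSh.unitsAb X) U → _) :=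
  fun s s' h => by
    have e : UnitsSh.unitOfSect s = UnitsSh.unitOfSect s' := Units.ext h
    exact (UnitsSh.sectOfUnit_unitOfSect s).symm.trans
      ((congrArg UnitsSh.sectOfUnit e).trans (UnitsSh.sectOfUnit_unitOfSect s'))

theorem exists_oval {U : X.Opens} {x : Γ(X, U)} (hx : IsUnit x) :
    ∃ s : sec (UnitsSh.unitsAb X) U, oval s = x := ⟨UnitsSh.sectOfUnit (O := X.presheaf) hx.unit, rfl⟩

/-- the inclusion of the units in the chosen injective sheaf, on sections -/
def ιI (U : X.Opens) : sec (UnitsSh.unitsAb X) U →+ sec (embedSeq (UnitsSh.unitsAb X)).X₂ U :=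
  ((embedSeq (UnitsSh.unitsAb X)).f.hom.app (op U)).hom

/-- the projection on sections -/
def πQ (U : X.Opens) : sec (embedSeq (UnitsSh.unitsAb X)).X₂ U →+ sec (embedSeq (UnitsSh.unitsAb X)).X₃ U :=
  ((embedSeq (UnitsSh.unitsAb X)).g.hom.app (op U)).hom

theorem ιI_rr {U V : X.Opens} (h : V ≤ U) (s : sec (UnitsSh.unitsAb X) U) :
    ιI _ (rr _ h s) = rr _ h (ιI _ s) := app_rr _ h s

theorem πQ_rr {U V : X.Opens} (h : V ≤ U) (s : sec (embedSeq (UnitsSh.unitsAb X)).X₂ U) :
    πQ _ (rr _ h s) = rr _ h (πQ _ s) := app_rr _ h s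

theorem ιI_injective (U : X.Opens) : Function.Injective (ιI U) := f_injective (embedSeq_shortExact (UnitsSh.unitsAb X)) U

theorem πQ_ιI (U : X.Opens) (s : sec (UnitsSh.unitsAb X) U) : πQ U (ιI U s) = 0 :=
  g_f (X := X.toTopCat) (S := embedSeq (UnitsSh.unitsAb X)) s

theorem exists_ιI {U : X.Opens} (x : sec (embedSeq (UnitsSh.unitsAb X)).X₂ U) (hx : πQ U x = 0) : ∃ s, ιI U s = x :=
  exists_kernel (embedSeq_shortExact (UnitsSh.unitsAb X)) x hx

theorem exists_lift_nhd (q : sec (embedSeq (UnitsSh.unitsAb X)).X₃ (⊤ : X.Opens)) (p : X) :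
    ∃ (V : X.Opens) (y : sec (embedSeq (UnitsSh.unitsAb X)).X₂ V), p ∈ V ∧ πQ V y = rr _ le_top q := by
  obtain ⟨V, _, i, hxV, hi⟩ := exists_lift (embedSeq_shortExact (UnitsSh.unitsAb X)) q (x := p) trivial
  exact ⟨V, i, hxV, hi⟩

/-- isomorphisms keep generators -/
theorem isGen_iso {M N : X.Modules} (φ : M ≅ N) {U : X.Opens} {e : Γ(M, U)} (he : IsGen e) :
    IsGen (φ.hom.app U e) := fun V hV => by
  have hb : Function.Bijective (φ.hom.app V) := ConcreteCategory.bijective_of_isIso (φ.hom.app V)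
  have : (fun c : Γ(X, V) => c • QC.res N hV (φ.hom.app U e)) =
      (φ.hom.app V) ∘ fun c : Γ(X, V) => c • QC.res M hV e := funext fun c => by
    rw [Function.comp_apply, app_res, Scheme.Modules.Hom.app_smul]
  rw [this]
  exact hb.comp (he V hV)

/-- a global generator trivializes -/
theorem nonempty_iso_of_gen {M : X.Modules} {v : Γ(M, ⊤)} (hv : IsGen v) :
    Nonempty (M ≅ Coh.structureModule X) := by
  obtain ⟨i⟩ := InvGen.nonempty_iso (𝟙 X) M (U := ⊤) le_top v hv
  exact ⟨(Scheme.Modules.restrictFunctorId.app M).symm ≪≫ i⟩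

/-- two generators differ by a unit section -/
theorem exists_coeff {L : X.Modules} {O : X.Opens} {e e' : Γ(L, O)} (he : IsGen e) (he' : IsGen e') :
    ∃ s : sec (UnitsSh.unitsAb X) O, e = oval s • e' := by
  obtain ⟨r, hr⟩ := (he' O le_rfl).2 e
  obtain ⟨r', hr'⟩ := (he O le_rfl).2 e'
  simp only [Groth.Agent.QC.res_self] at hr hr'
  have hu : r * r' = 1 := by
    refine (he O le_rfl).1 ?_
    simp only [Groth.Agent.QC.res_self, one_smul, mul_smul]
    rw [hr', hr]
  obtain ⟨s, hs⟩ := exists_oval (IsUnit.of_mul_eq_one _ hu)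
  exact ⟨s, by rw [hs, hr]⟩

theorem oval_smul_injective {L : X.Modules} {O : X.Opens} {e : Γ(L, O)} (he : IsGen e)
    {s s' : sec (UnitsSh.unitsAb X) O} (h : oval s • e = oval s' • e) : s = s' := by
  refine oval_injective ((he O le_rfl).1 ?_)
  simpa only [Groth.Agent.QC.res_self] using h

theorem res_oval {L : X.Modules} {U V : X.Opens} (h : V ≤ U) (s : sec (UnitsSh.unitsAb X) U) (e : Γ(L, U)) :
    QC.res L h (oval s • e) = oval (rr _ h s) • QC.res L h e := by
  rw [res_smul, oval_rr]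

/-- The data linking an invertible module and a section of the cokernel. -/
structure Dat (L : X.Modules) (q : sec (embedSeq (UnitsSh.unitsAb X)).X₃ ⊤) where
  κ : Type u
  U : κ → X.Opens
  cov : ∀ x : X, ∃ a, x ∈ U a
  t : ∀ a, Γ(L, U a)
  gen : ∀ a, IsGen (t a)
  i : ∀ a, sec (embedSeq (UnitsSh.unitsAb X)).X₂ (U a)
  proj : ∀ a, πQ _ (i a) = rr _ (le_top : U a ≤ ⊤) q
  rel : ∀ (a b : κ) (O : X.Opens) (ha : O ≤ U a) (hb : O ≤ U b) (c : sec (UnitsSh.unitsAb X) O),
    QC.res L ha (t a) = oval c • QC.res L hb (t b) → rr _ ha (i a) - rr _ hb (i b) = ιI _ c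

/-- Every invertible module has data. -/
theorem exists_dat {L : X.Modules} (hL : PicF.IsInvertible L) : ∃ q, Nonempty (Dat L q) := by
  choose U t hx ht using fun x : X => TMul.exists_isGen hL x
  choose g hg using fun a b : X =>
    exists_coeff ((ht a).res (inf_le_left : U a ⊓ U b ≤ U a)) ((ht b).res (inf_le_right : U a ⊓ U b ≤ U b))
  have hgO : ∀ (a b : X) (O : X.Opens) (ha : O ≤ U a) (hb : O ≤ U b),
      QC.res L ha (t a) = oval (rr _ (le_inf ha hb) (g a b)) • QC.res L hb (t b) := fun a b O ha hb => by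
    have h := congrArg (QC.res L (le_inf ha hb)) (hg a b)
    rwa [res_oval, res_res, res_res] at h
  obtain ⟨i, hi⟩ := exists_split (G := UnitsSh.unitsAb X) U (I := (embedSeq (UnitsSh.unitsAb X)).X₂) (embedSeq (UnitsSh.unitsAb X)).f g
    (fun a b c W ha hb hc => by
      refine oval_smul_injective ((ht c).res hc) ?_
      rw [oval_add, mul_smul, ← hgO b c W hb hc, ← hgO a b W ha hb, ← hgO a c W ha hc])
  obtain ⟨q, hq⟩ := exists_glue _ U (fun x => ⟨x, hx x⟩) (fun a => πQ _ (i a)) (fun a b => by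
    rw [← πQ_rr, ← πQ_rr, ← sub_eq_zero, ← map_sub]
    exact (congrArg (πQ _) (hi a b)).trans (πQ_ιI _ _))
  refine ⟨q, ⟨⟨X, U, fun x => ⟨x, hx x⟩, t, ht, i, fun a => (hq a).symm, fun a b O ha hb c hc => ?_⟩⟩⟩
  have hc' : c = rr _ (le_inf ha hb) (g a b) := oval_smul_injective ((ht b).res hb) (hc.symm.trans (hgO a b O ha hb))
  have h := congrArg (rr _ (le_inf ha hb)) (hi a b)
  rw [map_sub, rr_rr, rr_rr] at h
  rw [h, hc']
  exact (ιI_rr _ _).symm

/-- Every section of the cokernel has data. -/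
theorem exists_dat_of_sect (q : sec (embedSeq (UnitsSh.unitsAb X)).X₃ ⊤) :
    ∃ L : X.Modules, PicF.IsInvertible L ∧ Nonempty (Dat L q) := by
  choose U i hx hi using fun p : X => exists_lift_nhd q p
  have hi' : ∀ a, πQ _ (i a) = rr _ (le_top : U a ≤ ⊤) q := hi
  choose g hg using fun a b : X =>
    exists_ιI (rr _ (inf_le_left : U a ⊓ U b ≤ U a) (i a) - rr _ (inf_le_right : U a ⊓ U b ≤ U b) (i b)) (by
      rw [map_sub, πQ_rr, πQ_rr, hi', hi', rr_rr, rr_rr, sub_self])
  have hgO : ∀ (a b : X) (O : X.Opens) (ha : O ≤ U a) (hb : O ≤ U b),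
      ιI _ (rr _ (le_inf ha hb) (g a b)) = rr _ ha (i a) - rr _ hb (i b) := fun a b O ha hb => by
    rw [ιI_rr, hg, map_sub, rr_rr, rr_rr]
  let c : ∀ z w, Γ(X, U z ⊓ U w) := fun z w => oval (g z w)
  have hc : NormLB.IsCocycle c := fun z w v O hz hw hv => by
    rw [← oval_rr (le_inf hz hw) (g z w), ← oval_rr (le_inf hw hv) (g w v), ← oval_rr (le_inf hz hv) (g z v), ← oval_add]
    congr 1
    refine ιI_injective _ ?_
    rw [map_add, hgO z w O hz hw, hgO w v O hw hv, hgO z v O hz hv, sub_add_sub_cancel]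
  have hu : ∀ z w, IsUnit (c z w) := fun z w => isUnit_oval _
  refine ⟨NormLB.line c, NormLB.isInvertible_line hc hu (fun x => ⟨x, hx x⟩),
    ⟨⟨X, U, fun x => ⟨x, hx x⟩, NormLB.gen hc, NormLB.isGen_gen hc hu, i, hi', fun a b O ha hb k hk => ?_⟩⟩⟩
  rw [← hgO a b O ha hb]
  refine congrArg (ιI _) (oval_smul_injective ((NormLB.isGen_gen hc hu b).res hb) ?_)
  rw [← hk, NormLB.res_gen hc a b O ha hb, oval_rr]

/-- A lift gives a trivialisation. -/
theorem Dat.nonempty_iso {L : X.Modules} {q : sec (embedSeq (UnitsSh.unitsAb X)).X₃ ⊤} (D : Dat L q)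
    (y : sec (embedSeq (UnitsSh.unitsAb X)).X₂ ⊤) (hy : πQ _ y = q) :
    Nonempty (L ≅ Coh.structureModule X) := by
  choose u hu using fun a => exists_ιI (D.i a - rr _ (le_top : D.U a ≤ ⊤) y) (by
    rw [map_sub, D.proj, πQ_rr, hy, sub_self])
  let s : ∀ a, Γ(L, D.U a) := fun a => oval (-u a) • D.t a
  have hs : ∀ a, IsGen (s a) := fun a => UfdExtend.isGen_unit_smul (D.gen a) (isUnit_oval _)
  have hcompat : ∀ a b (O : X.Opens) (ha : O ≤ D.U a) (hb : O ≤ D.U b), QC.res L ha (s a) = QC.res L hb (s b) := by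
    intro a b O ha hb
    obtain ⟨c, hc⟩ := exists_coeff ((D.gen a).res ha) ((D.gen b).res hb)
    have h := D.rel a b O ha hb c hc
    have hc' : rr _ ha (-u a) + c = rr _ hb (-u b) := by
      refine ιI_injective _ ?_
      rw [map_add, ιI_rr ha (-u a), ιI_rr hb (-u b), map_neg (ιI (D.U a)), map_neg (ιI (D.U b)), hu, hu, map_neg, map_neg, map_sub, map_sub,
        rr_rr, rr_rr, ← h]
      abel
    rw [res_oval, res_oval, hc, smul_smul, ← oval_add, hc']
  obtain ⟨v, hv, -⟩ := TopCat.Sheaf.existsUnique_gluing' (Groth.Agent.QC.abSheaf L) D.U ⊤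
    (fun a => homOfLE le_top) (fun x _ => Opens.mem_iSup.mpr (D.cov x)) s
    (fun a b => hcompat a b _ inf_le_left inf_le_right)
  refine nonempty_iso_of_gen (v := v) (UfdExtend.isGen_of_locally fun x _ => ?_)
  obtain ⟨a, ha⟩ := D.cov x
  refine ⟨D.U a, le_top, ha, ?_⟩
  rw [show QC.res L (le_top : D.U a ≤ ⊤) v = s a from hv a]
  exact hs a

/-- Two data of isomorphic modules differ by a lift. -/
theorem Dat.exists_lift {L L' : X.Modules} {q q' : sec (embedSeq (UnitsSh.unitsAb X)).X₃ ⊤} (D : Dat L q)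
    (D' : Dat L' q') (φ : L' ≅ L) : ∃ y, πQ _ y = q - q' := by
  let V : D.κ × D'.κ → X.Opens := fun z => D.U z.1 ⊓ D'.U z.2
  have hVcov : ∀ x, ∃ z, x ∈ V z := fun x => by
    obtain ⟨a, ha⟩ := D.cov x
    obtain ⟨b, hb⟩ := D'.cov x
    exact ⟨⟨a, b⟩, ha, hb⟩
  have hgen' : ∀ b, IsGen (φ.hom.app (D'.U b) (D'.t b)) := fun b => isGen_iso φ (D'.gen b)
  choose w hw using fun z : D.κ × D'.κ =>
    exists_coeff ((D.gen z.1).res (inf_le_left : V z ≤ D.U z.1)) ((hgen' z.2).res (inf_le_right : V z ≤ D'.U z.2))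
  obtain ⟨y, hy⟩ := exists_glue (embedSeq (UnitsSh.unitsAb X)).X₂ V hVcov
    (fun z => rr _ (inf_le_left : V z ≤ D.U z.1) (D.i z.1) - rr _ (inf_le_right : V z ≤ D'.U z.2) (D'.i z.2) -
      ιI _ (w z)) (fun z z' => by
      let O := V z ⊓ V z'
      have ha : O ≤ D.U z.1 := inf_le_left.trans inf_le_left
      have ha' : O ≤ D.U z'.1 := inf_le_right.trans inf_le_left
      have hb : O ≤ D'.U z.2 := inf_le_left.trans inf_le_right
      have hb' : O ≤ D'.U z'.2 := inf_le_right.trans inf_le_right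
      obtain ⟨c, hc⟩ := exists_coeff ((D.gen z.1).res ha) ((D.gen z'.1).res ha')
      obtain ⟨c', hc'⟩ := exists_coeff ((D'.gen z.2).res hb) ((D'.gen z'.2).res hb')
      have h1 := D.rel _ _ O ha ha' c hc
      have h2 := D'.rel _ _ O hb hb' c' hc'
      have hc'' := congrArg (φ.hom.app O) hc'
      rw [← app_res, Scheme.Modules.Hom.app_smul, ← app_res] at hc''
      have e1 := congrArg (QC.res L (inf_le_left : O ≤ V z)) (hw z)
      have e2 := congrArg (QC.res L (inf_le_right : O ≤ V z')) (hw z')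
      rw [res_oval, res_res, res_res] at e1 e2
      have hk : c + rr _ (inf_le_right : O ≤ V z') (w z') = rr _ (inf_le_left : O ≤ V z) (w z) + c' := by
        refine oval_smul_injective ((hgen' z'.2).res hb') ?_
        rw [oval_add, oval_add, mul_smul, mul_smul, ← e2, ← hc'', ← e1]
        exact hc.symm
      have h3 := congrArg (ιI _) hk
      rw [map_add, map_add, ← h1, ← h2, ιI_rr, ιI_rr] at h3
      rw [map_sub, map_sub, map_sub, map_sub, rr_rr _ (inf_le_left : O ≤ V z) (inf_le_left : V z ≤ D.U z.1),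
        rr_rr _ (inf_le_left : O ≤ V z) (inf_le_right : V z ≤ D'.U z.2),
        rr_rr _ (inf_le_right : O ≤ V z') (inf_le_left : V z' ≤ D.U z'.1),
        rr_rr _ (inf_le_right : O ≤ V z') (inf_le_right : V z' ≤ D'.U z'.2)]
      refine eq_of_sub_eq_zero ?_
      rw [← sub_eq_zero] at h3
      rw [← h3]
      abel)
  refine ⟨y, eq_of_opens _ V (fun _ => le_top) (fun x _ => hVcov x) fun z => ?_⟩
  rw [← πQ_rr, hy z, map_sub, map_sub, πQ_rr, πQ_rr, πQ_ιI, sub_zero, D.proj, D'.proj, rr_rr, rr_rr,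
    map_sub]

/-- Tensor products add the sections. -/
theorem Dat.nonempty_tensor {L M : X.Modules} {q q' : sec (embedSeq (UnitsSh.unitsAb X)).X₃ ⊤}
    (D : Dat L q) (D' : Dat M q') : Nonempty (Dat (CohB1.tensorMod L M) (q + q')) := by
  refine ⟨⟨D.κ × D'.κ, fun z => D.U z.1 ⊓ D'.U z.2, fun x => by
      obtain ⟨a, ha⟩ := D.cov x
      obtain ⟨b, hb⟩ := D'.cov x
      exact ⟨⟨a, b⟩, ha, hb⟩,
    fun z => TMul.tm (QC.res L inf_le_left (D.t z.1)) (QC.res M inf_le_right (D'.t z.2)),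
    fun z => TMul.isGen_tm ((D.gen z.1).res _) ((D'.gen z.2).res _),
    fun z => rr _ inf_le_left (D.i z.1) + rr _ inf_le_right (D'.i z.2), fun z => ?_,
    fun z z' O hz hz' c hc => ?_⟩⟩
  · rw [map_add, πQ_rr, πQ_rr, D.proj, D'.proj, rr_rr, rr_rr, map_add]
  · have ha : O ≤ D.U z.1 := hz.trans inf_le_left
    have ha' : O ≤ D.U z'.1 := hz'.trans inf_le_left
    have hb : O ≤ D'.U z.2 := hz.trans inf_le_right
    have hb' : O ≤ D'.U z'.2 := hz'.trans inf_le_right
    obtain ⟨c₁, hc₁⟩ := exists_coeff ((D.gen z.1).res ha) ((D.gen z'.1).res ha')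
    obtain ⟨c₂, hc₂⟩ := exists_coeff ((D'.gen z.2).res hb) ((D'.gen z'.2).res hb')
    have h1 := D.rel _ _ O ha ha' c₁ hc₁
    have h2 := D'.rel _ _ O hb hb' c₂ hc₂
    simp only [TMul.res_tm, res_res] at hc
    rw [hc₁, hc₂, TMul.smul_tm, TMul.tm_smul, smul_smul, ← oval_add] at hc
    have hk : c₁ + c₂ = c := oval_smul_injective (TMul.isGen_tm ((D.gen z'.1).res ha') ((D'.gen z'.2).res hb')) hc
    rw [← hk, map_add, map_add, map_add, rr_rr, rr_rr, rr_rr, rr_rr, ← h1, ← h2]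
    abel

/-- Data of the structure sheaf. -/
theorem nonempty_dat_one : Nonempty (Dat (Coh.structureModule X) 0) := by
  refine ⟨⟨PUnit.{u + 1}, fun _ => ⊤, fun x => ⟨PUnit.unit, trivial⟩, fun _ => (1 : Γ(X, ⊤)), fun _ => TMul.isGen_one ⊤,
    fun _ => 0, fun _ => by rw [map_zero, map_zero], fun a b O ha hb c hc => ?_⟩⟩
  have hc' : c = 0 := by
    refine oval_injective ?_
    have h1 : (1 : Γ(X, O)) = oval c * 1 := by
      have h := hc
      change resO X ha 1 = oval c * resO X hb 1 at h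
      exact ((map_one (resO X ha)).symm.trans h).trans (congrArg (oval c * ·) (map_one (resO X hb)))
    rw [_root_.mul_one] at h1
    rw [← h1, oval_zero]
  rw [hc', map_zero, map_zero, sub_self]

/-- `H¹ = 0` iff every invertible module is trivial. -/
theorem subsingleton_H_iff :
    Subsingleton (CohTop.H (UnitsSh.unitsAb X) 1) ↔
      ∀ L : X.Modules, PicF.IsInvertible L → Nonempty (L ≅ Coh.structureModule X) := by
  constructor
  · intro h L hL
    obtain ⟨q, ⟨D⟩⟩ := exists_dat hL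
    obtain ⟨y, hy⟩ := (δ_eq_zero_iff _ q).1 (h.elim _ _)
    exact D.nonempty_iso y hy
  · intro h
    refine subsingleton_of_forall_eq 0 fun x => ?_
    obtain ⟨q, rfl⟩ := δ_surjective _ x
    obtain ⟨L, hL, ⟨D⟩⟩ := exists_dat_of_sect q
    obtain ⟨φ⟩ := h L hL
    obtain ⟨D₀⟩ := nonempty_dat_one (X := X)
    obtain ⟨y, hy⟩ := D.exists_lift D₀ φ.symm
    exact (δ_eq_zero_iff _ q).2 ⟨y, hy.trans (sub_zero q)⟩

/-- `Pic X ≅ H¹(X_et, G_m)`. -/
theorem nonempty_addEquiv [PicGrp.Law X] :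
    Nonempty (Additive (PicLoc.PicSet X) ≃+ CohTop.H (UnitsSh.unitsAb X) 1) := by
  have hex : ∀ c : PicLoc.PicSet X, ∃ (L : X.Modules) (hL : PicF.IsInvertible L) (q : _),
      c = PicGrp.cls L hL ∧ Nonempty (Dat L q) := fun c => by
    obtain ⟨L, hL, rfl⟩ := PicGrp.exists_eq_cls c
    obtain ⟨q, hq⟩ := exists_dat hL
    exact ⟨L, hL, q, rfl, hq⟩
  choose L hL q hc hD using hex
  have key : ∀ (c : PicLoc.PicSet X) {M : X.Modules} {q' : _}, c.1 = PicF.cl M → Nonempty (Dat M q') →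
      δ _ (q c) = δ _ q' := fun c M q' hM ⟨D'⟩ => by
    obtain ⟨D⟩ := hD c
    have hiso : Nonempty (L c ≅ M) :=
      (PicGrp.cl_eq_cl_iff _ _).1 ((congrArg Subtype.val (hc c)).symm.trans hM)
    obtain ⟨φ⟩ := hiso
    obtain ⟨y, hy⟩ := D.exists_lift D' φ.symm
    rw [← sub_eq_zero, ← map_sub]
    exact (δ_eq_zero_iff _ _).2 ⟨y, hy⟩
  refine ⟨AddEquiv.ofBijective (AddMonoidHom.mk' (fun c : Additive (PicLoc.PicSet X) => δ _ (q c.toMul))
    fun a b => ?_) ⟨?_, fun x => ?_⟩⟩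
  · obtain ⟨D⟩ := hD a.toMul
    obtain ⟨D'⟩ := hD b.toMul
    rw [← map_add]
    refine key _ ?_ (D.nonempty_tensor D')
    rw [toMul_add]
    conv_lhs => rw [hc a.toMul, hc b.toMul]
    exact PicGrp.cls_mul_cls_val _ _
  · rw [injective_iff_map_eq_zero]
    intro c hc0
    obtain ⟨y, hy⟩ := (δ_eq_zero_iff _ _).1 hc0
    obtain ⟨D⟩ := hD c.toMul
    have h1 : c.toMul = 1 := (hc c.toMul).trans ((PicGrp.cls_eq_one_iff _).2 (D.nonempty_iso y hy))
    exact Additive.toMul.injective h1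
  · obtain ⟨q', rfl⟩ := δ_surjective _ x
    obtain ⟨M, hM, hD'⟩ := exists_dat_of_sect q'
    exact ⟨Additive.ofMul (PicGrp.cls M hM), key _ rfl hD'⟩

end Groth.Agent.ZarPicLib
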