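import Groth.Prelude.Def_CohTop
import Groth.Agent.TorsH1.Main
import Groth.Agent.SiteCoh.Basic

/-!
# Classes in `H¹` of a sheaf on a topological space through an injective embedding
-/

set_option autoImplicit false
set_option backward.isDefEq.respectTransparency false
set_option backward.isDefEq.respectTransparency.types false
set_option linter.style.haveILetI false

universe u

open CategoryTheory CategoryTheory.Limits CategoryTheory.Abelian TopologicalSpace Opposite
open Groth.Agent.SiteCoh (embedSeq embedSeq_shortExact)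

noncomputable section

namespace Groth.Agent.ZarPicLib

variable {X : TopCat.{u}} {G I : CohTop.Ab X}

/-- Sections over an open. -/
abbrev sec (F : CohTop.Ab X) (U : Opens X) : Type u := F.obj.obj (op U)

/-- Restriction. -/
abbrev rr (F : CohTop.Ab X) {U V : Opens X} (h : V ≤ U) : sec F U →+ sec F V := (F.obj.map (homOfLE h).op).hom

theorem rr_rr (F : CohTop.Ab X) {U V W : Opens X} (h : W ≤ V) (h' : V ≤ U) (s : sec F U) :
    rr F h (rr F h' s) = rr F (h.trans h') s :=
  (ConcreteCategory.congr_hom (F.obj.map_comp (homOfLE h').op (homOfLE h).op) s).symm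

theorem rr_self (F : CohTop.Ab X) {U : Opens X} (h : U ≤ U) (s : sec F U) : rr F h s = s :=
  ConcreteCategory.congr_hom (F.obj.map_id (op U)) s

theorem app_rr {F F' : CohTop.Ab X} (φ : F ⟶ F') {U V : Opens X} (h : V ≤ U) (s : sec F U) :
    (φ.hom.app (op V)).hom (rr F h s) = rr F' h ((φ.hom.app (op U)).hom s) :=
  ConcreteCategory.congr_hom (φ.hom.naturality (homOfLE h).op) s

/-- glueing on a cover -/
theorem exists_glue (F : CohTop.Ab X) {κ : Type u} (U : κ → Opens X) (hU : ∀ x : X, ∃ a, x ∈ U a)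
    (s : ∀ a, sec F (U a))
    (hs : ∀ a b, rr F (inf_le_left : U a ⊓ U b ≤ U a) (s a) = rr F (inf_le_right : U a ⊓ U b ≤ U b) (s b)) :
    ∃ t : sec F ⊤, ∀ a, rr F (le_top : U a ≤ ⊤) t = s a := by
  obtain ⟨t, ht, -⟩ := TopCat.Sheaf.existsUnique_gluing' (⟨F.obj, F.property⟩ : TopCat.Sheaf AddCommGrpCat.{u} X)
    U ⊤ (fun a => homOfLE le_top) (fun x _ => Opens.mem_iSup.mpr (hU x)) s hs
  exact ⟨t, ht⟩

/-- equality on a cover -/
theorem eq_of_opens (F : CohTop.Ab X) {κ : Type u} (U : κ → Opens X) {W : Opens X} (hW : ∀ a, U a ≤ W)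
    (hU : ∀ x ∈ W, ∃ a, x ∈ U a) {s t : sec F W}
    (h : ∀ a, rr F (hW a) s = rr F (hW a) t) : s = t :=
  TopCat.Sheaf.eq_of_locally_eq' (⟨F.obj, F.property⟩ : TopCat.Sheaf AddCommGrpCat.{u} X) U W
    (fun a => homOfLE (hW a)) (fun x hx => Opens.mem_iSup.mpr (hU x hx)) s t h

section exact

variable {S : ShortComplex (CohTop.Ab X)} (hS : S.ShortExact)
include hS

theorem f_injective (U : Opens X) : Function.Injective (S.f.hom.app (op U)) := TorsH1.app_injective hS (op U)

theorem exists_kernel {U : Opens X} (x : sec S.X₂ U) (hx : S.g.hom.app (op U) x = 0) :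
    ∃ g : sec S.X₁ U, S.f.hom.app (op U) g = x := TorsH1.exists_preimage hS x hx

/-- an epimorphism lifts sections locally -/
theorem exists_lift {U : Opens X} (q : sec S.X₃ U) {x : X} (hx : x ∈ U) :
    ∃ (V : Opens X) (hV : V ≤ U) (i : sec S.X₂ V), x ∈ V ∧ S.g.hom.app (op V) i = rr S.X₃ hV q := by
  obtain ⟨T, hT, hl⟩ := TorsH1.locally_lift hS q
  obtain ⟨V, f, hf, hxV⟩ := hT x hx
  obtain ⟨i, hi⟩ := hl f hf
  exact ⟨V, f.le, i, hxV, hi⟩

end exact

theorem g_f {S : ShortComplex (CohTop.Ab X)} {U : Opens X} (x : sec S.X₁ U) :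
    S.g.hom.app (op U) (S.f.hom.app (op U) x) = 0 :=
  ConcreteCategory.congr_hom (NatTrans.congr_app (congrArg (fun e => e.hom) S.zero) (op U)) x

/-- the constant sheaf on the integers -/
abbrev ZZ (X : TopCat.{u}) : CohTop.Ab X :=
  (constantSheaf (Opens.grothendieckTopology X) AddCommGrpCat.{u}).obj (AddCommGrpCat.of (ULift.{u} ℤ))

/-- maps out of the constant sheaf are global sections -/
def secZ (F : CohTop.Ab X) : (ZZ X ⟶ F) ≃+ sec F ⊤ where
  toFun a := TorsH1.family a ⊤
  invFun s := TorsH1.ofFamily (fun U => rr F (le_top : U ≤ ⊤) s) fun U V f => rr_rr F f.le le_top s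
  left_inv a := TorsH1.hom_ext_family _ _ fun U => by
    rw [TorsH1.family_ofFamily]
    exact TorsH1.family_map a (homOfLE (le_top : U ≤ ⊤))
  right_inv s := by
    simp only [TorsH1.family_ofFamily]
    exact rr_self F le_rfl s
  map_add' a b := by
    have h : ∀ c : ZZ X ⟶ F, TorsH1.family c ⊤ =
        (c.hom.app (op ⊤)).hom ((toSheafify (Opens.grothendieckTopology X)
          ((Functor.const (Opens X)ᵒᵖ).obj (AddCommGrpCat.of (ULift.{u} ℤ)))).app (op ⊤) (ULift.up (1 : ℤ))) := fun c => by
      rw [TorsH1.family, Adjunction.homEquiv_unit]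
      rfl
    rw [h, h, h]
    rfl

theorem secZ_comp {F F' : CohTop.Ab X} (a : ZZ X ⟶ F) (φ : F ⟶ F') :
    secZ F' (a ≫ φ) = (φ.hom.app (op ⊤)).hom (secZ F a) := TorsH1.family_comp a φ ⊤

variable (G)

/-- The connecting map `Q(X) → H¹(X, G)`. -/
def δ : sec (embedSeq G).X₃ ⊤ →+ CohTop.H G 1 :=
  AddMonoidHom.mk' (fun q => (Ext.mk₀ ((secZ _).symm q)).comp (embedSeq_shortExact G).extClass (zero_add 1))
    fun q q' => by rw [map_add, Ext.mk₀_add, Ext.add_comp]

theorem δ_surjective (x : CohTop.H G 1) : ∃ q, δ G q = x := by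
  obtain ⟨d, hd⟩ := Ext.covariant_sequence_exact₁ _ (embedSeq_shortExact G) x (Ext.eq_zero_of_injective _) (zero_add 1)
  obtain ⟨φ, rfl⟩ := (Ext.mk₀_bijective _ _).2 d
  refine ⟨secZ _ φ, ?_⟩
  change (Ext.mk₀ _).comp _ (zero_add 1) = x
  rw [AddEquiv.symm_apply_apply]
  exact hd

theorem δ_eq_zero_iff (q : sec (embedSeq G).X₃ ⊤) :
    δ G q = 0 ↔ ∃ y, (embedSeq G).g.hom.app (op ⊤) y = q := by
  constructor
  · intro h
    obtain ⟨d, hd⟩ := Ext.covariant_sequence_exact₃ _ (embedSeq_shortExact G) _ (zero_add 1) h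
    obtain ⟨ψ, rfl⟩ := (Ext.mk₀_bijective _ _).2 d
    rw [Ext.mk₀_comp_mk₀] at hd
    refine ⟨secZ _ ψ, ?_⟩
    rw [← secZ_comp, (Ext.mk₀_bijective _ _).1 hd, AddEquiv.apply_symm_apply]
  · rintro ⟨y, rfl⟩
    have : (secZ (embedSeq G).X₃).symm ((embedSeq G).g.hom.app (op ⊤) y) =
        (secZ _).symm y ≫ (embedSeq G).g := by
      apply (secZ (embedSeq G).X₃).injective
      rw [AddEquiv.apply_symm_apply, secZ_comp, AddEquiv.apply_symm_apply]
    change (Ext.mk₀ _).comp _ (zero_add 1) = (0 : Ext _ _ 1)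
    rw [this, ← Ext.mk₀_comp_mk₀_assoc, (embedSeq_shortExact G).comp_extClass, Ext.comp_zero]

variable {G}

/-! ### Extending a cocycle to the injective sheaf -/

section split

variable {κ : Type u} (U : κ → Opens X)

/-- the members of the cover containing an open -/
def Idx (W : Opens X) : Type u := {a : κ // W ≤ U a}

/-- functoriality -/
def idxMap {W W' : Opens X} (h : W' ≤ W) (a : Idx U W) : Idx U W' := ⟨a.1, h.trans a.2⟩

/-- the free abelian presheaf on `Idx` -/
def freeIdx : (Opens X)ᵒᵖ ⥤ AddCommGrpCat.{u} where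
  obj W := AddCommGrpCat.of (FreeAbelianGroup (Idx U W.unop))
  map f := AddCommGrpCat.ofHom (FreeAbelianGroup.map (idxMap U f.unop.le))
  map_id W := by
    ext : 1
    exact FreeAbelianGroup.lift_ext _ _ fun a => FreeAbelianGroup.map_of_apply a
  map_comp f g := by
    ext : 1
    refine FreeAbelianGroup.lift_ext _ _ fun a => ?_
    refine (FreeAbelianGroup.map_of_apply a).trans ?_
    change _ = FreeAbelianGroup.map (idxMap U g.unop.le) (FreeAbelianGroup.map (idxMap U f.unop.le) (FreeAbelianGroup.of a))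
    rw [FreeAbelianGroup.map_of_apply, FreeAbelianGroup.map_of_apply]
    rfl

/-- the degree -/
def deg (W : Opens X) : FreeAbelianGroup (Idx U W) →+ ℤ := FreeAbelianGroup.lift fun _ => 1

theorem deg_map {W W' : Opens X} (h : W' ≤ W) (x : FreeAbelianGroup (Idx U W)) :
    deg U W' (FreeAbelianGroup.map (idxMap U h) x) = deg U W x :=
  DFunLike.congr_fun (FreeAbelianGroup.lift_ext ((deg U W').comp (FreeAbelianGroup.map (idxMap U h))) (deg U W)
    fun a => by simp [deg]) x

/-- the degree zero part -/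
def degZero : (Opens X)ᵒᵖ ⥤ AddCommGrpCat.{u} where
  obj W := AddCommGrpCat.of (deg U W.unop).ker
  map {W W'} f := AddCommGrpCat.ofHom
    ((((freeIdx U).map f).hom.comp (deg U W.unop).ker.subtype).codRestrict (deg U W'.unop).ker
      (fun x => (deg_map U f.unop.le x.1).trans x.2))
  map_id W := by
    ext x
    exact ConcreteCategory.congr_hom ((freeIdx U).map_id W) x.1
  map_comp f g := by
    ext x
    exact ConcreteCategory.congr_hom ((freeIdx U).map_comp f g) x.1

/-- the inclusion -/
def degZeroι : degZero U ⟶ freeIdx U where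
  app W := AddCommGrpCat.ofHom (deg U W.unop).ker.subtype
  naturality W W' f := by
    ext x
    rfl

instance : Mono (degZeroι U) := by
  haveI : ∀ W, Mono ((degZeroι U).app W) := fun W =>
    (AddCommGrpCat.mono_iff_injective _).2 fun x y h => Subtype.ext h
  exact NatTrans.mono_of_mono_app _

/-- **a cocycle becomes a coboundary in an injective sheaf** -/
theorem exists_split [Injective I] (e : G ⟶ I) (g : ∀ a b, sec G (U a ⊓ U b))
    (hg : ∀ (a b c : κ) (W : Opens X) (ha : W ≤ U a) (hb : W ≤ U b) (hc : W ≤ U c),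
      rr G (le_inf ha hb) (g a b) + rr G (le_inf hb hc) (g b c) = rr G (le_inf ha hc) (g a c)) :
    ∃ i : ∀ a, sec I (U a), ∀ a b,
      rr I (inf_le_left : U a ⊓ U b ≤ U a) (i a) - rr I (inf_le_right : U a ⊓ U b ≤ U b) (i b) =
        (e.hom.app (op (U a ⊓ U b))).hom (g a b) := by
  classical
  let sub : ∀ {W : Opens X}, Idx U W → Idx U W → sec G W := fun a b => rr G (le_inf a.2 b.2) (g a.1 b.1)
  have hsub_add : ∀ {W : Opens X} (a b c : Idx U W), sub a b + sub b c = sub a c :=
    fun {W} a b c => hg a.1 b.1 c.1 W a.2 b.2 c.2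
  have hsub_map : ∀ {W W' : Opens X} (h : W' ≤ W) (a b : Idx U W),
      rr G h (sub a b) = sub (idxMap U h a) (idxMap U h b) := fun h a b => rr_rr G _ _ _
  let base : ∀ (W : Opens X), Idx U W → Idx U W := fun W t => if h : Nonempty (Idx U W) then h.some else t
  let α : ∀ W : Opens X, FreeAbelianGroup (Idx U W) →+ sec G W := fun W =>
    FreeAbelianGroup.lift fun t => sub t (base W t)
  have hchange : ∀ {W : Opens X} (a : Idx U W) (x : FreeAbelianGroup (Idx U W)), deg U W x = 0 →
      α W x = FreeAbelianGroup.lift (fun t => sub t a) x := by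
    intro W a x hx
    have h : α W = FreeAbelianGroup.lift (fun t => sub t a) +
        (zmultiplesHom _ (sub a (base W a))).comp (deg U W) := by
      refine FreeAbelianGroup.lift_ext _ _ fun t => ?_
      have hb : base W t = base W a := by simp [base, show Nonempty (Idx U W) from ⟨a⟩]
      simp only [α, FreeAbelianGroup.lift_apply_of, AddMonoidHom.add_apply, AddMonoidHom.comp_apply, deg,
        zmultiplesHom_apply, one_zsmul, hb, hsub_add]
    rw [h, AddMonoidHom.add_apply, AddMonoidHom.comp_apply, hx, map_zero, add_zero]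
  let A : degZero U ⟶ G.obj :=
    { app := fun W => AddCommGrpCat.ofHom ((α W.unop).comp (deg U W.unop).ker.subtype)
      naturality := fun W W' f => by
        ext x
        change α W'.unop (FreeAbelianGroup.map (idxMap U f.unop.le) x.1) = rr G f.unop.le (α W.unop x.1)
        by_cases h : Nonempty (Idx U W.unop)
        · obtain ⟨a⟩ := h
          rw [hchange (idxMap U f.unop.le a) _ ((deg_map U f.unop.le x.1).trans x.2), hchange a _ x.2]
          exact DFunLike.congr_fun (FreeAbelianGroup.lift_ext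
            ((FreeAbelianGroup.lift fun t => sub t (idxMap U f.unop.le a)).comp (FreeAbelianGroup.map (idxMap U f.unop.le)))
            ((rr G f.unop.le).comp (FreeAbelianGroup.lift fun t => sub t a))
            fun t => by simp [hsub_map]) x.1
        · haveI : IsEmpty (Idx U W.unop) := not_nonempty_iff.1 h
          rw [Subsingleton.elim x.1 0, map_zero, map_zero, map_zero, map_zero] }
  haveI : Injective I.obj :=
    Injective.injective_of_adjoint (sheafificationAdjunction (Opens.grothendieckTopology X) AddCommGrpCat.{u}) I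
  let β : freeIdx U ⟶ I.obj := Injective.factorThru (A ≫ e.hom) (degZeroι U)
  have hβ : degZeroι U ≫ β = A ≫ e.hom := Injective.comp_factorThru _ _
  have hnat : ∀ {W W' : Opens X} (h : W' ≤ W) (a : Idx U W),
      rr I h (β.app (op W) (FreeAbelianGroup.of a)) = β.app (op W') (FreeAbelianGroup.of (idxMap U h a)) :=
    fun h a => ((NatTrans.naturality_apply β (homOfLE h).op (FreeAbelianGroup.of a)).symm.trans
      (congrArg _ (FreeAbelianGroup.map_of_apply a)))
  let self : ∀ a, Idx U (U a) := fun a => ⟨a, le_rfl⟩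
  refine ⟨fun a => β.app (op (U a)) (FreeAbelianGroup.of (self a)), fun a b => ?_⟩
  let a' : Idx U (U a ⊓ U b) := ⟨a, inf_le_left⟩
  let b' : Idx U (U a ⊓ U b) := ⟨b, inf_le_right⟩
  rw [hnat, hnat]
  change β.app _ (FreeAbelianGroup.of a') - β.app _ (FreeAbelianGroup.of b') = _
  have hx : deg U _ (FreeAbelianGroup.of a' - FreeAbelianGroup.of b') = 0 := by simp [deg]
  have h := ConcreteCategory.congr_hom (NatTrans.congr_app hβ (op (U a ⊓ U b))) ⟨_, hx⟩
  change β.app _ (FreeAbelianGroup.of a' - FreeAbelianGroup.of b') = e.hom.app _ (α _ (FreeAbelianGroup.of a' - FreeAbelianGroup.of b')) at h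
  rw [map_sub] at h
  rw [h, hchange b' _ hx, map_sub, FreeAbelianGroup.lift_apply_of, FreeAbelianGroup.lift_apply_of,
    show sub b' b' = 0 from left_eq_add.1 (hsub_add b' b' b').symm, sub_zero]
  exact congrArg _ (rr_self G _ _)

end split

end Groth.Agent.ZarPicLib
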