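import Groth.Agent.ZarPicLib.Basic

/-!
# Cocycles with values in a sheaf without `H¹` are coboundaries
-/

set_option autoImplicit false
set_option backward.isDefEq.respectTransparency false
set_option backward.isDefEq.respectTransparency.types false
set_option linter.style.haveILetI false

universe u

open CategoryTheory CategoryTheory.Limits TopologicalSpace Opposite
open Groth.Agent.SiteCoh (embedSeq embedSeq_shortExact)

noncomputable section

namespace Groth.Agent.ZarPicLib

variable {X : TopCat.{u}}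

theorem exists_coboundary (G : CohTop.Ab X) (h : Subsingleton (CohTop.H G 1)) {κ : Type u} (U : κ → Opens X)
    (hU : ∀ x : X, ∃ a, x ∈ U a) (g : ∀ a b, sec G (U a ⊓ U b))
    (hg : ∀ (a b c : κ) (W : Opens X) (ha : W ≤ U a) (hb : W ≤ U b) (hc : W ≤ U c),
      rr G (le_inf ha hb) (g a b) + rr G (le_inf hb hc) (g b c) = rr G (le_inf ha hc) (g a c)) :
    ∃ w : ∀ a, sec G (U a), ∀ a b,
      g a b = rr G (inf_le_left : U a ⊓ U b ≤ U a) (w a) - rr G (inf_le_right : U a ⊓ U b ≤ U b) (w b) := by
  have hS := embedSeq_shortExact G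
  obtain ⟨i, hi⟩ := exists_split U (I := (embedSeq G).X₂) (embedSeq G).f g hg
  obtain ⟨q, hq⟩ := exists_glue (embedSeq G).X₃ U hU (fun a => ((embedSeq G).g.hom.app (op (U a))).hom (i a))
    (fun a b => by
      rw [← app_rr, ← app_rr, ← sub_eq_zero, ← map_sub, hi]
      exact g_f (X := X) (S := embedSeq G) (g a b))
  obtain ⟨y, hy⟩ := (δ_eq_zero_iff G q).1 (h.elim _ _)
  choose w hw using fun a => exists_kernel hS (i a - rr _ (le_top : U a ≤ ⊤) y) (by
    change ((embedSeq G).g.hom.app _).hom _ = 0
    rw [map_sub, app_rr, sub_eq_zero]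
    exact (hq a).symm.trans (congrArg _ hy.symm))
  refine ⟨w, fun a b => f_injective hS _ ?_⟩
  change ((embedSeq G).f.hom.app _).hom _ = ((embedSeq G).f.hom.app _).hom _
  rw [map_sub, app_rr, app_rr, ← hi a b]
  refine Eq.symm ?_
  refine (congrArg₂ (fun p q => rr (embedSeq G).X₂ inf_le_left p - rr (embedSeq G).X₂ inf_le_right q) (hw a) (hw b)).trans ?_
  rw [map_sub, map_sub, rr_rr, rr_rr]
  abel

end Groth.Agent.ZarPicLib
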